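import Cfsg.Agent.H417.DegMTwelve
import Cfsg.Agent.H109.S8.AutDeg

/-!
# S4908: degrees of `M12` and of `Aut M12` (helper491)

* `deg_m12` : the degrees of `M12` are `1, 16, 45, 54, 120, 144` and multiples of `11` in the list `pool`;
* `deg_aut_m12` : the degrees of `Aut M12` (with `|Out| = 2` as hypothesis) are these, `32`, and multiples of `11`;
* `deg_sub` : both together.
-/

set_option autoImplicit false

open scoped ComplexConjugate
open Cfsg Cfsg.Agent.H424.DegTools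

namespace Cfsg.Agent.H491.S8

universe u v

variable {X : Type v} [Group X]

theorem finite_m12 (hX : Cfsg.IsM12 X) : Finite X :=
  Nat.finite_of_card_ne_zero (by rw [hX.2]; norm_num)

theorem center_m12 (hX : Cfsg.IsM12 X) : Subgroup.center X = ⊥ := by
  have hs := hX.1
  have hn : (Subgroup.center X).Normal := inferInstance
  rcases hn.eq_bot_or_eq_top with h | h
  · exact h
  · exfalso
    have hcomm : ∀ a b : X, a * b = b * a := fun a b => by
      have : b ∈ Subgroup.center X := by rw [h]; trivial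
      exact Subgroup.mem_center_iff.1 this a
    let _ : CommGroup X := { (inferInstance : Group X) with mul_comm := hcomm }
    have := finite_m12 hX
    have h1 : (Nat.card X).Prime := IsSimpleGroup.prime_card
    rw [hX.2] at h1
    norm_num at h1

/-- the characters of `M12` -/
theorem chars_m12 (hX : Cfsg.IsM12 X) : ∃ o th th' c45 c54 c120 c144 : IrrCharacter X,
    charDegree (o : X → ℂ) = 1 ∧
    charDegree (th : X → ℂ) = 16 ∧ charDegree (th' : X → ℂ) = 16 ∧ th ≠ th' ∧ charDegree (c45 : X → ℂ) = 45 ∧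
    charDegree (c54 : X → ℂ) = 54 ∧ charDegree (c120 : X → ℂ) = 120 ∧ charDegree (c144 : X → ℂ) = 144 ∧
    ∀ ψ : IrrCharacter X, (ψ = o ∨ charDegree (ψ : X → ℂ) ∈ MTwelve.FiveBlock.pool) ∧
      (ψ = o ∨ ψ = c45 ∨ ψ = c54 ∨ ψ = c120 ∨ ψ = c144 ∨ ψ = th ∨ ψ = th' ∨
        11 ∣ charDegree (ψ : X → ℂ)) := by
  classical
  have hs : IsSimpleGroup X := hX.1
  have hc : Nat.card X = 95040 := hX.2
  have := finite_m12 hX
  have := Fintype.ofFinite X
  have := Characters.Core.finite_irr (G := X)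
  have := Fintype.ofFinite (IrrCharacter X)
  obtain ⟨C, t, hdeg, ho, -⟩ := H417.DegMTwelve.exists_ctx hc
    (fun P => Cfsg.Agent.MTwelve.SylowEleven.centralizer_sylow11 hc P)
    (fun P => Cfsg.Agent.MTwelve.SylowEleven.card_normalizer_sylow11 hc P)
  have hcd : ∀ ψ : IrrCharacter X, charDegree (ψ : X → ℂ) = C.deg ψ := fun ψ => by
    rw [hdeg]
    exact Cfsg.Agent.MTwelve.ElevenMain.charDegree_eq_deg ψ
  refine ⟨C.o, C.th, C.th', C.c45, C.c54, C.c120, C.c144, ?_, ?_, ?_, C.th_ne, ?_, ?_, ?_, ?_, fun ψ => ⟨?_, ?_⟩⟩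
  · rw [hcd, C.deg_o]
  · rw [hcd, C.dth]
  · rw [hcd, C.dth']
  · rw [hcd, C.d45]
  · rw [hcd, C.d54]
  · rw [hcd, C.d120]
  · rw [hcd, C.d144]
  · rw [hcd]
    by_cases h : ψ = C.o
    · exact Or.inl h
    · exact Or.inr (C.hpool ψ h)
  · rw [hcd]
    exact C.rest ψ

/-- **the degrees of `M12`** -/
theorem deg_m12 (hX : Cfsg.IsM12 X) {d : ℕ} (hd : d ∈ charDegrees X) :
    d ∈ ({1, 16, 45, 54, 120, 144} : Set ℕ) ∨ (11 ∣ d ∧ d ∈ MTwelve.FiveBlock.pool) := by
  obtain ⟨o, th, th', c45, c54, c120, c144, h0, h1, h2, -, h4, h5, h6, h7, hr⟩ := chars_m12 hX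
  obtain ⟨ψ, rfl⟩ := hd
  obtain ⟨hp, h⟩ := hr ψ
  simp only [Set.mem_insert_iff, Set.mem_singleton_iff]
  rcases h with rfl | rfl | rfl | rfl | rfl | rfl | rfl | h
  · omega
  · omega
  · omega
  · omega
  · omega
  · omega
  · omega
  · right
    refine ⟨h, hp.resolve_left ?_⟩
    rintro rfl
    omega

/-- **the degrees of `Aut M12`** -/
theorem deg_aut_m12 (hX : Cfsg.IsM12 X) (hout : (MulAut.conj : X →* MulAut X).range.index = 2) {d : ℕ}
    (hd : d ∈ charDegrees (MulAut X)) :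
    d ∈ ({1, 16, 45, 54, 120, 144} : Set ℕ) ∨ (11 ∣ d ∧ d ∈ MTwelve.FiveBlock.pool) ∨ d = 32 ∨
      ∃ f : ℕ, d = 2 * f ∧ 11 ∣ f ∧ f ∈ MTwelve.FiveBlock.pool := by
  have := finite_m12 hX
  rcases H109.S8.deg_aut (center_m12 hX) hout hd with h | ⟨χ, χ', f, hne, e1, e2, rfl⟩
  · rcases deg_m12 hX h with h | h
    · exact Or.inl h
    · exact Or.inr (Or.inl h)
  · right; right
    obtain ⟨o, th, th', c45, c54, c120, c144, h0, h1, h2, -, h4, h5, h6, h7, hr⟩ := chars_m12 hX
    have cd : ∀ (ψ : IrrCharacter X), (ψ : X → ℂ) 1 = f → charDegree (ψ : X → ℂ) = f := by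
      intro ψ hψ
      have h3 := Blocks.Basic.irr_one_eq_charDegree ψ.2
      rw [hψ] at h3
      exact_mod_cast h3.symm
    have c1 := cd χ e1
    have c2 := cd χ' e2
    obtain ⟨p1, q1⟩ := hr χ
    obtain ⟨p2, q2⟩ := hr χ'
    have key : 11 ∣ f ∨ f = 16 := by
      by_contra hcon
      push Not at hcon
      obtain ⟨k1, k2⟩ := hcon
      rw [c1] at q1
      rw [c2] at q2
      rcases q1 with rfl | rfl | rfl | rfl | rfl | rfl | rfl | q1 <;>
      rcases q2 with rfl | rfl | rfl | rfl | rfl | rfl | rfl | q2 <;>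
      first | exact hne rfl | omega
    rcases key with h | rfl
    · right
      refine ⟨f, rfl, h, ?_⟩
      rw [c1] at p1
      refine p1.resolve_left ?_
      rintro rfl
      omega
    · left; rfl

/-- **a superset of the degrees**: prime powers are `1, 11, 16, 32` -/
theorem deg_sub (hX : Cfsg.IsM12 X) (hout : (MulAut.conj : X →* MulAut X).range.index = 2) {D : Set ℕ}
    (hD : Cfsg.Agent.H704.S8.Deg 2 X D) {d : ℕ} (hd : d ∈ D) :
    d ∈ ({1, 16, 32, 45, 54, 120, 144} : Set ℕ) ∨ (11 ∣ d ∧ 11 ≤ d ∧ d ≤ 594) := by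
  have hpool : ∀ f ∈ MTwelve.FiveBlock.pool, 0 < f ∧ f ≤ 297 := by decide
  rcases hD with rfl | ⟨-, rfl⟩
  · rcases deg_m12 hX hd with h | ⟨h, h'⟩
    · simp only [Set.mem_insert_iff, Set.mem_singleton_iff] at h ⊢
      omega
    · have := hpool d h'
      omega
  · rcases deg_aut_m12 hX hout hd with h | ⟨h, h'⟩ | rfl | ⟨f, rfl, h, h'⟩
    · simp only [Set.mem_insert_iff, Set.mem_singleton_iff] at h ⊢
      omega
    · have := hpool d h'
      omega
    · simp
    · have := hpool f h'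
      omega

end Cfsg.Agent.H491.S8
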