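import Cfsg.Agent.H306.SD.JDeg
import Cfsg.Agent.H48.J3Three
import Cfsg.Agent.S2041
import Cfsg.Agent.H990.TC.Univ
import Cfsg.Agent.H253.TwoComm.Base
import Cfsg.Agent.H622.Over
import Cfsg.Agent.H109.S8.CovCore
import Cfsg.Agent.H529.S8.Cov
import Cfsg.Agent.S0189

/-!
# S4908: the row COVER of `J₃` (helper491)

`3·J₃` has an elementary abelian subgroup of order 9 all of whose nontrivial elements `x` are conjugate to `x z`, `z ≠ 1`
central. So the degrees of the faithful irreducible characters are divisible by 9. The multiples of 9 among the degrees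
of `J₃` and `J₃.2` are multiples of 81, and `3 ^ 6` does not divide `|J₃|`.
-/

set_option autoImplicit false

namespace Cfsg.Agent.H491.S8.JThreeCov

open Cfsg Subgroup Cfsg.Spor Cfsg.Agent.J3.Core Cfsg.Agent.J3.Tab Cfsg.Agent.J3.Mono Cfsg.Agent.J3.Elts
open Cfsg.Agent.H51.Mult Matrix Cfsg.Agent.Characters.Core
open Cfsg.Agent.H48.J3Three (pr pr_surjective ker_pr pce wd lg wt wd_cons wd_one wd_nil wd_eqS wd_eq0 k_da k_db k_ea k_eb
  k_d3 k_e3)

universe u v

section generic

variable {N : Type u} [Group N] [Finite N]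

/-- vanishing -/
theorem zero_of_conj {χ : N → ℂ} (hχ : IsIrrCharacter N χ) {c : center N →* ℂˣ}
    (hc : H622.Over.Lies (center N) c χ) {x g t : N} (ht : t ∈ center N) (h : x * g = t * (g * x))
    (hne : c ⟨t, ht⟩ ≠ 1) : χ x = 0 := by
  have h1 : χ (g⁻¹ * x * g⁻¹⁻¹) = χ x := isIrr_isClassFunction hχ x g⁻¹
  have h2 : g⁻¹ * x * g⁻¹⁻¹ = x * t := by
    rw [inv_inv, mul_assoc, h, ← mem_center_iff.1 ht (g * x)]
    group
  rw [h2, hc x ⟨t, ht⟩] at h1
  by_contra h0
  apply hne
  apply Units.ext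
  rw [Units.val_one]
  exact mul_left_cancel₀ h0 (by rw [h1, mul_one])

/-- **the generic lemma** -/
theorem nine {s a b d e : N} (hs : s ∈ center N) (d3 : d ^ 3 = 1) (e3 : e ^ 3 = 1) (s3 : s ^ 3 = 1)
    (hde : d * e = e * d) (hda : d * a = s * (a * d)) (hdb : d * b = b * d) (hea : e * a = a * e)
    (heb : e * b = s * (b * e)) {χ : N → ℂ} (hχ : IsIrrCharacter N χ) (hne : χ s ≠ χ 1) :
    9 ∣ charDegree χ := by
  classical
  have := Fintype.ofFinite N
  obtain ⟨c, hc⟩ := H622.Over.exists_hom le_rfl hχ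
  have hcs : c ⟨s, hs⟩ ≠ 1 := by
    intro h1
    apply hne
    have h2 := hc 1 ⟨s, hs⟩
    rw [h1, Units.val_one, mul_one, one_mul] at h2
    exact h2
  have hcs3 : c ⟨s, hs⟩ ^ 3 = 1 := by
    rw [← map_pow]
    have h1 : (⟨s, hs⟩ : center N) ^ 3 = 1 := Subtype.ext s3
    rw [h1, map_one]
  have hcs2 : c ⟨s ^ 2, pow_mem hs 2⟩ ≠ 1 := by
    intro h1
    have h2 : (⟨s ^ 2, pow_mem hs 2⟩ : center N) = ⟨s, hs⟩ ^ 2 := rfl
    rw [h2, map_pow] at h1
    apply hcs
    rw [pow_succ, h1, one_mul] at hcs3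
    exact hcs3
  have hs1 : s ≠ 1 := by
    rintro rfl
    exact hne rfl
  have hd1 : d ≠ 1 := by
    rintro rfl
    apply hs1
    have h1 := hda
    rw [one_mul, mul_one] at h1
    exact (mul_eq_right.1 h1.symm)
  have he1 : e ≠ 1 := by
    rintro rfl
    apply hs1
    have h1 := heb
    rw [one_mul, mul_one] at h1
    exact (mul_eq_right.1 h1.symm)
  have p3 : Fact (Nat.Prime 3) := ⟨Nat.prime_three⟩
  have od : orderOf d = 3 := orderOf_eq_prime d3 hd1
  have oe : orderOf e = 3 := orderOf_eq_prime e3 he1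
  have hsc : ∀ g : N, g * s = s * g := fun g => mem_center_iff.1 hs g
  -- the second powers
  have two : ∀ {x y : N}, x * y = s * (y * x) → x ^ 2 * y = s ^ 2 * (y * x ^ 2) := by
    intro x y h
    calc x ^ 2 * y = x * (x * y) := by rw [pow_two, mul_assoc]
      _ = (x * s) * (y * x) := by rw [h, ← mul_assoc]
      _ = s * ((x * y) * x) := by rw [hsc]; group
      _ = s ^ 2 * (y * x ^ 2) := by rw [h, pow_two, pow_two]; simp only [mul_assoc]
  have key : ∀ {x y w : N}, x ^ 3 = 1 → x ≠ 1 → x * y = s * (y * x) → w * y = y * w →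
      ∀ n < 3, x ^ n ≠ 1 → χ (x ^ n * w) = 0 ∧ χ (w * x ^ n) = 0 := by
    intro x y w hx hx1 h hw n hn hne
    have e1 : n = 1 ∨ n = 2 := by
      rcases n with _ | _ | _ | n
      · exact absurd (pow_zero x) hne
      · exact Or.inl rfl
      · exact Or.inr rfl
      · omega
    rcases e1 with rfl | rfl
    · constructor
      · refine zero_of_conj hχ hc hs (g := y) ?_ hcs
        rw [pow_one, mul_assoc, hw, ← mul_assoc, h]
        group
      · refine zero_of_conj hχ hc hs (g := y) ?_ hcs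
        rw [pow_one, mul_assoc, h, ← mul_assoc, hsc, mul_assoc, ← mul_assoc w y x, hw]
        group
    · constructor
      · refine zero_of_conj hχ hc (pow_mem hs 2) (g := y) ?_ hcs2
        rw [mul_assoc, hw, ← mul_assoc, two h]
        group
      · refine zero_of_conj hχ hc (pow_mem hs 2) (g := y) ?_ hcs2
        have h5 : w * s ^ 2 = s ^ 2 * w := mem_center_iff.1 (pow_mem hs 2) w
        rw [mul_assoc, two h, ← mul_assoc, h5, mul_assoc, ← mul_assoc w y (x ^ 2), hw]
        group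
  have hcm : ∀ (m : zpowers d) (n : zpowers e), Commute ((zpowers d).subtype m) ((zpowers e).subtype n) := by
    rintro ⟨_, i, rfl⟩ ⟨_, j, rfl⟩
    exact (Commute.zpow_zpow (show Commute d e from hde) i j)
  let φ : zpowers d × zpowers e →* N := MonoidHom.noncommCoprod _ _ hcm
  have hφ : ∀ x, φ x = x.1 * x.2 := fun x => rfl
  obtain ⟨n, ρ, hρ, hχρ⟩ := id hχ
  have hchar : IsCharacter (zpowers d × zpowers e) (fun x => χ (φ x)) := ⟨n, ρ.comp φ, by rw [← hχρ]; rfl⟩
  have hpow : ∀ {x y : N}, orderOf x = 3 → y ∈ zpowers x → ∃ n < 3, x ^ n = y := by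
    intro x y hx hy
    have h1 := (mem_zpowers_iff_mem_range_orderOf).1 hy
    rw [Finset.mem_image] at h1
    obtain ⟨n, hn, rfl⟩ := h1
    exact ⟨n, by rw [← hx]; exact Finset.mem_range.1 hn, rfl⟩
  obtain ⟨k, hk⟩ := S0189.card_dvd_degree_of_vanishing (⊤ : Subgroup (zpowers d × zpowers e)) _ hchar (by
    rintro ⟨⟨x, hx⟩, ⟨y, hy⟩⟩ - hxy
    show χ (φ _) = 0
    rw [hφ]
    show χ (x * y) = 0
    obtain ⟨i, hi, rfl⟩ := hpow od hx
    obtain ⟨j, hj, rfl⟩ := hpow oe hy
    by_cases h1 : d ^ i = 1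
    · have h2 : e ^ j ≠ 1 := by
        intro h2
        apply hxy
        exact Prod.ext (Subtype.ext h1) (Subtype.ext h2)
      exact (key e3 he1 heb ((Commute.pow_left (show Commute d b from hdb) i)) j hj h2).2
    · exact (key d3 hd1 hda ((Commute.pow_left (show Commute e a from hea) j)) i hi h1).1)
  have h1 : (Nat.card (⊤ : Subgroup (zpowers d × zpowers e)) : ℂ) = ((9 : ℕ) : ℂ) := by
    rw [card_top, Nat.card_prod, Nat.card_zpowers, Nat.card_zpowers, od, oe]
  rw [h1] at hk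
  have h2 : χ 1 = ((9 * k : ℕ) : ℂ) := by
    have h3 : χ (φ 1) = χ 1 := by rw [map_one]
    rw [← h3]
    have h4 : χ (φ 1) = ((9 : ℕ) : ℂ) * k := hk
    rw [h4]
    push_cast
    ring
  rw [Blocks.Basic.irr_one_eq_charDegree hχ] at h2
  have h3 : charDegree χ = 9 * k := by exact_mod_cast h2
  exact ⟨k, h3⟩

end generic

section model

variable {F : Type} [Field F] {ω : F}

theorem k_de : beqL (cols (wt [4, 5])) (cols (compT (tS 0) (wt [5, 4]))) = true := by decide +kernel

/-- the relations in `3·J₃` -/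
theorem rel [Fintype F] (hF : Fintype.card F = 4) (H : Good ω) :
    ∃ s a b d e : threeJ3 F ω, center (threeJ3 F ω) = zpowers s ∧ s ^ 3 = 1 ∧ d ^ 3 = 1 ∧ e ^ 3 = 1 ∧
      d * e = e * d ∧ d * a = s * (a * d) ∧ d * b = b * d ∧ e * a = a * e ∧ e * b = s * (b * e) := by
  obtain ⟨G⟩ := exists_gens hF H
  obtain ⟨s, hs⟩ := J3.Nineteen.exists_scalar H G
  have r0 : ∀ {x y : ℕ}, beqL (cols (wt [x, y])) (cols (compT (tS 0) (wt [y, x]))) = true →
      lg G x * lg G y = lg G y * lg G x := by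
    intro x y h
    have h1 := wd_eq0 (G := G) H h
    rwa [wd_cons, wd_one, wd_cons, wd_one] at h1
  have r1 : ∀ {x y : ℕ}, beqL (cols (wt [x, y])) (cols (compT (tS 1) (wt [y, x]))) = true →
      lg G x * lg G y = s * (lg G y * lg G x) := by
    intro x y h
    have h1 := wd_eqS (G := G) H (by norm_num) h
    rw [wd_cons, wd_one, wd_cons, wd_one, pow_one] at h1
    apply mat_injective
    rw [h1, map_mul (mat ω) s, hs, smul_mul_assoc, one_mul]
  have r3 : ∀ {x : ℕ}, beqL (cols (wt [x, x, x])) (cols (compT (tS 0) (wt []))) = true → lg G x ^ 3 = 1 := by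
    intro x h
    have h1 := wd_eq0 (G := G) H h
    rw [wd_cons, wd_cons, wd_one, wd_nil] at h1
    rw [pow_succ, pow_two, mul_assoc]
    exact h1
  refine ⟨s, lg G 0, lg G 1, lg G 4, lg G 5, J3.Nineteen.center_eq hF H hs, ?_, r3 k_d3, r3 k_e3, r0 k_de, r1 k_da,
    r0 k_db, r0 k_ea, r1 k_eb⟩
  apply mat_injective
  rw [map_pow, hs, smul_pow, one_pow, H.cube, one_smul, map_one]

end model

/-- **the degrees of the faithful characters of `3·J₃` are divisible by 9** -/
theorem nine_dvd {X : Type v} [Group X] (hX : Spor.IsoJ3 X) {N : Type u} [Group N] [Finite N] {V : Subgroup N}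
    [V.Normal] (hV : Nat.card V = 3) (hc : V ≤ center N) (hp : commutator N = ⊤) (e : (N ⧸ V) ≃* X) {χ : N → ℂ}
    (hχ : IsIrrCharacter N χ) (hne : ∃ v ∈ V, χ v ≠ χ 1) : 9 ∣ charDegree χ := by
  obtain ⟨F, _, _, ω, hF, hω, ⟨f⟩⟩ := hX
  have H := good_of_card hF hω
  obtain ⟨s, a, b, d, e', hcen, s3, d3, e3, hde, hda, hdb, hea, heb⟩ := rel hF H
  let π : N →* J3 F ω := (e.trans f).toMonoidHom.comp (QuotientGroup.mk' V)
  have hker : π.ker = V := by
    ext x
    rw [MonoidHom.mem_ker]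
    show (e.trans f) (QuotientGroup.mk' V x) = 1 ↔ _
    rw [EmbeddingLike.map_eq_one_iff]
    exact QuotientGroup.eq_one_iff x
  have hπ : PCE π := ⟨(e.trans f).surjective.comp (QuotientGroup.mk'_surjective V), by rw [hker]; exact hc, hp⟩
  obtain ⟨θ, hθ⟩ : ∃ θ : threeJ3 F ω →* N, Function.Surjective θ := by
    refine H990.TC.exists_surj_of_card (Cfsg.Agent.S2041.result hF ω hω) (pce hF H) ?_ hπ
    rw [ker_pr, J3.Nineteen.card_center hF H]
    simp
  -- `θ` is injective
  have hfin : Finite (threeJ3 F ω) := by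
    apply Nat.finite_of_card_ne_zero
    have h1 := (center (threeJ3 F ω)).card_mul_index
    rw [J3.Nineteen.card_center hF H] at h1
    have h2 : (center (threeJ3 F ω)).index = 50232960 := Cfsg.Agent.J3.Simple.card_J3 hF H
    rw [h2] at h1
    rw [← h1]
    norm_num
  have hcard : Nat.card N = Nat.card (threeJ3 F ω) := by
    have h1 := (center (threeJ3 F ω)).card_mul_index
    rw [J3.Nineteen.card_center hF H] at h1
    have h2 := V.card_mul_index
    rw [hV] at h2
    have h3 : V.index = (center (threeJ3 F ω)).index := by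
      have h4 : V.index = Nat.card (J3 F ω) := by rw [Subgroup.index, Nat.card_congr (e.trans f).toEquiv]
      rw [h4]
      rfl
    rw [← h1, ← h2, h3]
  have hbij : Function.Bijective θ := (Nat.bijective_iff_surjective_and_card θ).2 ⟨hθ, hcard.symm⟩
  obtain ⟨v, hv, hvne⟩ := hne
  have hsc : θ s ∈ center N := by
    rw [mem_center_iff]
    intro g
    obtain ⟨x, rfl⟩ := hθ g
    have h1 : s ∈ center (threeJ3 F ω) := by rw [hcen]; exact mem_zpowers s
    rw [← map_mul, mem_center_iff.1 h1 x, map_mul]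
  -- `v` is a power of `θ s`
  obtain ⟨x, rfl⟩ := hθ v
  have hx : x ∈ center (threeJ3 F ω) := by
    rw [mem_center_iff]
    intro g
    apply hbij.1
    rw [map_mul, map_mul]
    exact mem_center_iff.1 (hc hv) (θ g)
  rw [hcen] at hx
  obtain ⟨n, rfl⟩ := hx
  refine nine (s := θ s) (a := θ a) (b := θ b) (d := θ d) (e := θ e') hsc (by rw [← map_pow, d3, map_one])
    (by rw [← map_pow, e3, map_one]) (by rw [← map_pow, s3, map_one]) (by rw [← map_mul, hde, map_mul])
    (by rw [← map_mul, hda, map_mul, map_mul]) (by rw [← map_mul, hdb, map_mul]) (by rw [← map_mul, hea, map_mul])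
    (by rw [← map_mul, heb, map_mul, map_mul]) hχ ?_
  intro h1
  apply hvne
  obtain ⟨c, hcc⟩ := H622.Over.exists_hom le_rfl hχ
  have h2 : c ⟨θ s, hsc⟩ = 1 := by
    apply Units.ext
    rw [Units.val_one]
    have h3 := hcc 1 ⟨θ s, hsc⟩
    rw [one_mul] at h3
    have h4 : χ 1 * (c ⟨θ s, hsc⟩ : ℂ) = χ 1 * 1 := by
      rw [mul_one, ← h3]
      exact h1
    exact mul_left_cancel₀ (isIrr_apply_one_ne_zero hχ) h4
  have h5 := hcc 1 (⟨θ s, hsc⟩ ^ n)
  rw [map_zpow, h2, _root_.one_zpow, Units.val_one, mul_one, one_mul] at h5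
  have h6 : ((⟨θ s, hsc⟩ ^ n : center N) : N) = θ (s ^ n) := by
    rw [map_zpow]
    rfl
  rw [h6] at h5
  exact h5

/-- the number of classes of `J₃` -/
theorem card_classes {X : Type v} [Group X] (hX : Spor.IsoJ3 X) : Nat.card (ConjClasses X) = 21 := by
  classical
  have := H306.SD.J.finite_of hX
  have := finite_irr (G := X)
  let _ := Fintype.ofFinite (IrrCharacter X)
  rw [← card_irr, Nat.card_eq_fintype_card]
  have h1 := congrArg Multiset.card (H306.SD.J.map_dg hX)
  rw [Multiset.card_map] at h1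
  exact h1

/-- **COVER for `J₃`** (the row for the prime 3) -/
theorem coverAt {X : Type v} [Group X] (hX : Spor.IsoJ3 X) {D : Set ℕ} (hD : H704.S8.Deg 2 X D) :
    H529.S8.CoverAt.{u} 3 2 D X := by
  classical
  have hP : ∀ m ∈ D, 9 ∣ m → 81 ∣ m := by
    intro m hm
    have h1 := H306.SD.J.deg_sub hX hD m hm
    have key : ∀ m ∈ [1, 85, 170, 323, 324, 646, 816, 1140, 1215, 1292, 1615, 1920, 1938, 2430, 2432, 2754, 3078, 3840,
      3876], 9 ∣ m → 81 ∣ m := by decide
    exact key m h1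
  intro N _ _ V _ hV hc hp ⟨e⟩ i hi
  rw [card_classes hX] at hi
  have hi1 : i = 0 ∨ i = 1 := by
    rcases i with _ | _ | i
    · exact Or.inl rfl
    · exact Or.inr rfl
    · exfalso
      have h1 : 3 ^ 4 ≤ 3 ^ (2 * (i + 1 + 1)) := Nat.pow_le_pow_right (by norm_num) (by omega)
      omega
  obtain ⟨l, S, -, -, h2, h3, -⟩ := H109.S8.exists_over_finset V Nat.prime_three hV hc hp
  by_contra hcon
  push Not at hcon
  have h27 : ∀ χ ∈ S, 27 ∣ charDegree (χ : N → ℂ) := by
    intro χ hχ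
    obtain ⟨h4, -⟩ := h2 χ hχ
    have h9 := nine_dvd hX hV hc hp e χ.2 h4
    have h5 := hcon χ (charDegree (χ : N → ℂ)) χ.2 h4 (Blocks.Basic.irr_one_eq_charDegree χ.2)
    by_cases h6 : charDegree (χ : N → ℂ) * 3 ^ i ∈ D
    · have h7 := hP _ h6 (h9.mul_right _)
      rcases hi1 with rfl | rfl
      · omega
      · omega
    · obtain ⟨h7, -⟩ := h5 h6
      have h8 := hP _ h7 ((h9.mul_right _).mul_left _)
      rcases hi1 with rfl | rfl
      · omega
      · omega
  have h4 : 729 ∣ ∑ χ ∈ S, charDegree (χ : N → ℂ) ^ 2 := by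
    refine Finset.dvd_sum fun χ hχ => ?_
    have h5 := pow_dvd_pow_of_dvd (h27 χ hχ) 2
    exact h5
  rw [h3, H109.S8.index_of_equiv V e, (H898.J3Cent.base hX).2.1] at h4
  norm_num at h4

end Cfsg.Agent.H491.S8.JThreeCov
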