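import Cfsg.Agent.H491.S8.JThreeCov
import Cfsg.Agent.H469.S8.J3Out
import Cfsg.Agent.H469.S8.J3Soc2
import Cfsg.Agent.H189.S8.J3Soc1
import Cfsg.Agent.H858.S8.J3Solv
import Cfsg.Agent.H306.SD.JFrob
import Cfsg.Agent.H529.S8.Mult

/-!
# S4908: the row of `J₃` (helper491)
-/

set_option autoImplicit false

namespace Cfsg.Agent.H491.S8.JThreeRow

open Cfsg Cfsg.Agent.H704.S8

universe u v

/-- **the row of `J₃`** -/
theorem row {X : Type v} [Group X] [Finite X] (hX : IsJ3 X) : Row3.{u, v} 2 X where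
  out := H469.S8.out_j3 (H58.S8.iso_j3 hX)
  solv := fun D hD => H858.S8.solv (H58.S8.iso_j3 hX) D hD
  soc1 := fun D hD => H189.S8.soc1_j3 (H58.S8.iso_j3 hX) D hD
  soc2 := fun D hD => H469.S8.soc2_j3 (H58.S8.iso_j3 hX) D hD
  chief := fun D hD => H306.SD.J.chief (H58.S8.iso_j3 hX) D hD
  cover := fun D hD => H529.S8.cover_prime (H529.S8.md_j3 hX) Nat.prime_three
    (H491.S8.JThreeCov.coverAt (H58.S8.iso_j3 hX) hD)
  mult := fun V _ => (H58.S8.mo_j3.{u} hX).mult V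

end Cfsg.Agent.H491.S8.JThreeRow
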