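import Cfsg.Agent.H491.S8.MTwelveSoc
import Cfsg.Agent.H435.S8.MTwelve
import Cfsg.Agent.H435.S8.MTwelveOut
import Cfsg.Agent.H450.S8.RowsSmall
import Cfsg.Agent.H640.S8.MTwelve
import Cfsg.Agent.H529.S8.Mult

/-!
# S4908: the row of `M₁₂` from its chief factor part (helper491)
-/

set_option autoImplicit false

namespace Cfsg.Agent.H491.S8.MTwelveRow

open Cfsg Cfsg.Agent.H704.S8

universe u v

/-- **the row of `M₁₂`** from `Chief` -/
theorem row_of {X : Type v} [Group X] [Finite X] (hX : IsM12 X) (hch : ∀ D : Set ℕ, Deg 2 X D → Chief.{u} 2 D X) :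
    Row3.{u, v} 2 X where
  out := H435.S8.MTwelve.out_row hX
  solv := fun D hD => H640.S8.MTwelve.solv hX hD
  soc1 := fun D hD => H491.S8.MTwelveSoc.soc1 hX hD
  soc2 := fun D hD => H450.S8.soc2_m12 hX hD
  chief := hch
  cover := fun D hD => H529.S8.cover_prime (H529.S8.md_m12 hX) Nat.prime_two (H435.S8.MTwelve.cover hX D hD)
  mult := fun V _ => (H58.S8.mo_m12.{u} hX).mult V

end Cfsg.Agent.H491.S8.MTwelveRow
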