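import Cfsg.Agent.H491.S8.MTwelve
import Cfsg.Agent.H690.S8.Soc1
import Cfsg.Agent.H245.S8.SocAlt
import Cfsg.Agent.H196.S8.Core
import Cfsg.Agent.H603.FD.Spor
import Cfsg.Agent.H678.DG.Tits
import Cfsg.Agent.H707.RowTits
import Cfsg.Agent.NotCT.Orders
import Cfsg.Agent.H58.S8.MultOut

/-!
# S4908: the row SOC1 of `M₁₂` (helper491)
-/

set_option autoImplicit false
set_option maxRecDepth 100000

namespace Cfsg.Agent.H491.S8.MTwelveSoc

open Cfsg Cfsg.Agent.H704.S8
open Cfsg.Agent.H691.AN (AlmostSimple)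
open Cfsg.Agent.H196.S8 (prime_deg two_deg mem_of_equiv)

universe u v

/-- a superset of the degrees -/
def L : List ℕ := [1, 16, 32, 45, 54, 120, 144, 11, 22, 33, 44, 55, 66, 88, 99, 110, 132, 165, 176, 198, 220, 264, 297,
  330, 352, 396, 440, 528, 594]

theorem pool_L : ∀ f ∈ MTwelve.FiveBlock.pool, 11 ∣ f → f ∈ L ∧ 2 * f ∈ L := by decide

theorem mem_L {X : Type v} [Group X] [Finite X] (hX : IsM12 X) (hout : (MulAut.conj : X →* MulAut X).range.index = 2)
    {D : Set ℕ} (hD : Deg 2 X D) {d : ℕ} (hd : d ∈ D) : d ∈ L := by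
  rcases hD with rfl | ⟨-, rfl⟩
  · rcases deg_m12 hX hd with h | ⟨h, h'⟩
    · simp only [Set.mem_insert_iff, Set.mem_singleton_iff] at h
      rcases h with rfl | rfl | rfl | rfl | rfl | rfl <;> decide
    · exact (pool_L d h' h).1
  · rcases deg_aut_m12 hX hout hd with h | ⟨h, h'⟩ | rfl | ⟨f, rfl, h, h'⟩
    · simp only [Set.mem_insert_iff, Set.mem_singleton_iff] at h
      rcases h with rfl | rfl | rfl | rfl | rfl | rfl <;> decide
    · exact (pool_L d h' h).1
    · decide
    · exact (pool_L f h' h).2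

theorem chk_L : H690.S8.chk L = true := by decide +kernel

theorem low : ∀ x ∈ [10, 20], x ∉ L := by decide

section

variable {X : Type v} [Group X] [Finite X]

theorem data (hX : IsM12 X) (hout : (MulAut.conj : X →* MulAut X).range.index = 2) : H245.S8.Data 2 X 7 11 where
  out := fun _ => hout.dvd
  prime := by norm_num
  odd := by norm_num
  ndvd := by
    rw [hX.2]
    norm_num
  ge := by
    intro d hd h2
    rcases deg_m12 hX hd with h | ⟨h, -⟩
    · simp only [Set.mem_insert_iff, Set.mem_singleton_iff] at h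
      omega
    · exact Nat.le_of_dvd (by omega) h
  ten := by norm_num
  le := by norm_num

end

section

variable {X : Type v} [Group X] [Finite X] {D : Set ℕ} (hX : IsM12 X)
  (hout : (MulAut.conj : X →* MulAut X).range.index = 2) (hD : Deg 2 X D)
  {A : Type u} [Group A] [Finite A] {S : Subgroup A} (hA : AlmostSimple A S) (h : charDegrees A ⊆ D)

include hX hout hD hA h

theorem two (ho : Nat.card (Out S) ≤ 2) {a : ℕ} (ha : a ∈ charDegrees S) (h1 : a ∉ L) (h2 : 2 * a ∉ L) : False := by
  rcases two_deg hA ho ha with h3 | h3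
  · exact h1 (mem_L hX hout hD (h h3))
  · exact h2 (mem_L hX hout hD (h h3))

theorem pr {p : ℕ} (hp : p.Prime) (hp2 : p ≠ 2) (hd : p ∣ Nat.card S) : p ∣ 95040 := by
  obtain ⟨d, h1, h2⟩ := prime_deg hA hp hd
  have h3 := H245.S8.deg_prime hD (fun _ => hout.dvd) hp hp2 d (h h1) h2
  rwa [hX.2] at h3

theorem tits (hS : Lie.IsoTits S) : False := by
  have ho := H489.card_out_tits hS
  obtain ⟨e⟩ := hS
  obtain ⟨f⟩ := H707.RowTits.equiv
  exact two hX hout hD hA h ho (mem_of_equiv (e.trans f) H678.DG.Tits.deg_78) (by decide) (by decide)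

theorem spor (hS : IsSporadicGroup S) : Nonempty (S ≃* X) := by
  have ho := H489.card_out_sporadic hS
  have kp : ∀ {p N : ℕ}, p.Prime → p ≠ 2 → Nat.card S = N → p ∣ N → ¬ p ∣ 95040 → Nonempty (S ≃* X) :=
    fun hp hp2 h1 h2 h3 => (h3 (pr hX hout hD hA h hp hp2 (by rw [h1]; exact h2))).elim
  rcases hS with hS | hS | hS | hS | hS | hS | hS | hS | hS | hS | hS | hS | hS | hS | hS | hS | hS | hS | hS | hS | hS | hS | hS | hS | hS | hS
  · obtain ⟨h1, h2, -⟩ := H603.FD.Spor.m11 (UGT.End.MEleven.isM11 hS)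
    exact (two hX hout hD hA h ho h1 (low 10 (by decide)) (low 20 (by decide))).elim
  · obtain ⟨e⟩ := hS
    obtain ⟨f⟩ := H58.S8.iso_m12 hX
    exact ⟨e.trans f.symm⟩
  · exact kp (p := 7) (by norm_num) (by norm_num) (NotCT.Orders.m22 hS) (by norm_num) (by norm_num)
  · exact kp (p := 7) (by norm_num) (by norm_num) (NotCT.Orders.m23 hS) (by norm_num) (by norm_num)
  · exact kp (p := 7) (by norm_num) (by norm_num) (NotCT.Orders.m24 hS) (by norm_num) (by norm_num)
  · exact kp (p := 19) (by norm_num) (by norm_num) (NotCT.Orders.j1 hS) (by norm_num) (by norm_num)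
  · exact kp (p := 7) (by norm_num) (by norm_num) (NotCT.Orders.j2 hS) (by norm_num) (by norm_num)
  · exact kp (p := 19) (by norm_num) (by norm_num) (NotCT.Orders.j3 hS) (by norm_num) (by norm_num)
  · exact kp (p := 43) (by norm_num) (by norm_num) (NotCT.Orders.j4 hS) (by norm_num) (by norm_num)
  · exact kp (p := 7) (by norm_num) (by norm_num) (NotCT.Orders.co1 hS) (by norm_num) (by norm_num)
  · exact kp (p := 7) (by norm_num) (by norm_num) (NotCT.Orders.co2 hS) (by norm_num) (by norm_num)
  · exact kp (p := 7) (by norm_num) (by norm_num) (NotCT.Orders.co3 hS) (by norm_num) (by norm_num)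
  · exact kp (p := 7) (by norm_num) (by norm_num) (NotCT.Orders.mcl hS) (by norm_num) (by norm_num)
  · exact kp (p := 7) (by norm_num) (by norm_num) (NotCT.Orders.hs hS) (by norm_num) (by norm_num)
  · exact kp (p := 7) (by norm_num) (by norm_num) (NotCT.Orders.suz hS) (by norm_num) (by norm_num)
  · exact kp (p := 7) (by norm_num) (by norm_num) (NotCT.Orders.he hS) (by norm_num) (by norm_num)
  · exact kp (p := 29) (by norm_num) (by norm_num) (NotCT.Orders.ru hS) (by norm_num) (by norm_num)
  · exact kp (p := 31) (by norm_num) (by norm_num) (NotCT.Orders.on hS) (by norm_num) (by norm_num)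
  · exact kp (p := 67) (by norm_num) (by norm_num) (NotCT.Orders.ly hS) (by norm_num) (by norm_num)
  · exact kp (p := 13) (by norm_num) (by norm_num) (NotCT.Orders.fi22 hS) (by norm_num) (by norm_num)
  · exact kp (p := 23) (by norm_num) (by norm_num) (NotCT.Orders.fi23 hS) (by norm_num) (by norm_num)
  · exact kp (p := 29) (by norm_num) (by norm_num) (NotCT.Orders.fi24 hS) (by norm_num) (by norm_num)
  · exact kp (p := 19) (by norm_num) (by norm_num) (NotCT.Orders.hn hS) (by norm_num) (by norm_num)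
  · exact kp (p := 31) (by norm_num) (by norm_num) (NotCT.Orders.th hS) (by norm_num) (by norm_num)
  · exact kp (p := 47) (by norm_num) (by norm_num) (NotCT.Orders.b hS) (by norm_num) (by norm_num)
  · exact kp (p := 71) (by norm_num) (by norm_num) (NotCT.Orders.m hS) (by norm_num) (by norm_num)

end

/-- **SOC1 for `M₁₂`** -/
theorem soc1 {X : Type v} [Group X] [Finite X] (hX : IsM12 X) {D : Set ℕ} (hD : Deg 2 X D) : Soc1.{u} D X := by
  have hout : (MulAut.conj : X →* MulAut X).range.index = 2 := (H58.S8.mo_m12.{0, v} (X := X) hX).out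
  have hkn : ∀ (T : Type u) [Group T] [Finite T] [IsSimpleGroup T], IsKnownSimple' T :=
    fun T _ _ _ => S0000.result (G := T)
  have hL : ∀ d ∈ D, d ∈ L := fun d hd => mem_L hX hout hD hd
  have halt : ∀ (A : Type u) [Group A] [Finite A] (S : Subgroup A), AlmostSimple A S → charDegrees A ⊆ D →
      IsAlternating S → Nonempty (S ≃* X) := by
    intro A _ _ S hA h ⟨m, hm, ⟨e⟩⟩
    exact ((data hX hout).no_alt hD hA h hm e).elim
  have htits : ∀ (A : Type u) [Group A] [Finite A] (S : Subgroup A), AlmostSimple A S → charDegrees A ⊆ D →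
      Lie.IsoTits S → Nonempty (S ≃* X) := by
    intro A _ _ S hA h hS
    exact (tits hX hout hD hA h hS).elim
  have hspor : ∀ (A : Type u) [Group A] [Finite A] (S : Subgroup A), AlmostSimple A S → charDegrees A ⊆ D →
      IsSporadicGroup S → Nonempty (S ≃* X) := by
    intro A _ _ S hA h hS
    exact spor hX hout hD hA h hS
  exact @H690.S8.soc1_list D X _ @hkn L @hL chk_L @halt @htits @hspor

end Cfsg.Agent.H491.S8.MTwelveSoc
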